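import Cfsg.Agent.Lib.SylowAbel.Good

/-!
Working with the elements of a subgroup whose `p`-th power lies in its derived subgroup.
-/

set_option autoImplicit false

namespace CfsgLib.SylowLieTwo

open CfsgLib.SylowAbel

variable {G G' K : Type*} [Group G] [Group G'] [Group K] {p : ℕ}

/-- The good elements of a subgroup, in the ambient group. -/
def gsub (p : ℕ) (H : Subgroup G) : Subgroup G := (goodSubgroup p H).map H.subtype

theorem mem_gsub_iff {H : Subgroup G} {g : G} : g ∈ gsub p H ↔ g ∈ H ∧ g ^ p ∈ ⁅H, H⁆ := by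
  rw [← Subgroup.map_subtype_commutator H]
  constructor
  · rintro ⟨x, hx, rfl⟩
    refine ⟨x.2, x ^ p, mem_goodSubgroup.1 hx, rfl⟩
  · rintro ⟨hg, y, hy, hyg⟩
    refine ⟨⟨g, hg⟩, mem_goodSubgroup.2 ?_, rfl⟩
    show (⟨g, hg⟩ : H) ^ p ∈ commutator H
    rwa [show (⟨g, hg⟩ : H) ^ p = y from Subtype.ext hyg.symm]

theorem mem_gsub_of_pow {H : Subgroup G} {g : G} (hg : g ∈ H) (h : g ^ p = 1) : g ∈ gsub p H :=
  mem_gsub_iff.2 ⟨hg, h ▸ Subgroup.one_mem _⟩

theorem good_of_le_gsub {H : Subgroup G} (h : H ≤ gsub p H) (x : H) : Good p x := by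
  obtain ⟨y, hy, hyx⟩ := h x.2
  exact Subtype.ext hyx ▸ mem_goodSubgroup.1 hy

/-- The image of a good group consists of good elements. -/
theorem mem_gsub_of_hom {H : Subgroup G} {L : Subgroup K} (f : K →* G) (hf : ∀ k ∈ L, f k ∈ H)
    (hL : ∀ x : L, Good p x) {k : K} (hk : k ∈ L) : f k ∈ gsub p H := by
  let f' : L →* H := (f.comp L.subtype).codRestrict H fun x => hf x.1 x.2
  exact ⟨f' ⟨k, hk⟩, mem_goodSubgroup.2 (good_map f' (hL _)), rfl⟩

/-- A subgroup generated by elements of order dividing `p` is good. -/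
theorem good_of_closure {H : Subgroup G} (S : Set G) (hS : H ≤ Subgroup.closure S) (hSH : S ⊆ H)
    (h : ∀ s ∈ S, s ^ p = 1) (x : H) : Good p x :=
  good_of_le_gsub (hS.trans ((Subgroup.closure_le _).2 fun s hs => mem_gsub_of_pow (hSH hs) (h s hs))) x

/-- The image of a good subgroup is good. -/
theorem good_map_subgroup (f : G →* G') {H : Subgroup G} (h : ∀ x : H, Good p x) (y : H.map f) :
    Good p y := by
  obtain ⟨x, rfl⟩ := f.subgroupMap_surjective H y
  exact good_map (f.subgroupMap H) (h x)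

/-- Transport along an isomorphism, from one Sylow subgroup to all. -/
theorem good_sylow_iso [Fact p.Prime] [Finite G] (e : G ≃* G') (P₀ : Sylow p G')
    (h : ∀ x : (P₀ : Subgroup G'), Good p x) (Q : Sylow p G) (y : (Q : Subgroup G)) : Good p y := by
  haveI : Finite G' := Finite.of_equiv G e.toEquiv
  refine good_sylow_of_hom (e.symm.toMonoidHom.comp (P₀ : Subgroup G').subtype)
    (e.symm.injective.comp Subtype.val_injective) ?_ h Q y
  rw [Sylow.card_eq_multiplicity, Nat.card_congr e.toEquiv]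

end CfsgLib.SylowLieTwo
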