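import Cfsg.Agent.Lib.SylowLieTwo.Basic
import Cfsg.Agent.Lib.ChevAut.Sylow

/-!
Sylow `2`-subgroups of the Chevalley groups over fields of characteristic two.
-/

set_option autoImplicit false

namespace CfsgLib.SylowLieTwo

open Cfsg.Lie CfsgLib.Chev CfsgLib.ChevAut CfsgLib.SylowAbel

variable {D : ChevalleyDatum} {T : Tabs} {F : Type*} [Field F]

theorem good_up (hc : Checked D T) (p : ℕ) [CharP F p] (x : Up D F) : Good p x := by
  have hpow : ∀ (r : ℕ), r < D.nroots → ∀ (t : F) (n : ℕ), elX D F r t ^ n = elX D F r ((n : F) * t) := by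
    intro r hr t n
    induction n with
    | zero => rw [pow_zero, Nat.cast_zero, zero_mul, elX_zero hc F hr]
    | succ n ih => rw [pow_succ, ih, elX_add hc F hr, Nat.cast_succ, add_mul, one_mul]
  refine good_of_closure _ le_rfl Subgroup.subset_closure ?_ x
  rintro _ ⟨r, t, hr, -, rfl⟩
  rw [hpow r hr, CharP.cast_eq_zero, zero_mul, elX_zero hc F hr]

theorem good_sylow_chev [Finite F] (p : ℕ) [Fact p.Prime] [CharP F p] (hc : Checked D T)
    (hcomm : CommOne D T) {G : Type*} [Group G] [Finite G] (e : G ≃* ↥(D.group F)) (Q : Sylow p G)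
    (y : (Q : Subgroup G)) : Good p y := by
  obtain ⟨P, hP⟩ := sylow_pos hc hcomm (F := F) p
  exact good_sylow_iso e P (hP ▸ good_of_equiv (Subgroup.subgroupOfEquivOfLe (up_le_group hc)).symm
    (good_up hc p)) Q y

end CfsgLib.SylowLieTwo
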