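import Cfsg.Agent.Lib.SylowLieTwo.Basic
import Cfsg.Agent.Lib.LieFusion.PSL
import Cfsg.Agent.Lib.LieFusion.SympSylow

/-!
Sylow `2`-subgroups of the linear and symplectic groups over fields of characteristic two.
-/

set_option autoImplicit false

namespace CfsgLib.SylowLieTwo

open Matrix CfsgLib.AutPSL CfsgLib.SylowAbel CfsgLib.LieFusion

variable {F : Type*} [Field F] [Fintype F] (p : ℕ) [Fact p.Prime] [CharP F p]

theorem good_uniTri {n : ℕ} (x : uniTri n F) : Good p x := by
  refine good_of_closure _ uniTri_le_closure ?_ ?_ x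
  · rintro _ ⟨i, j, hij, c, rfl⟩
    exact transvection_mem_uniTri hij c
  · rintro _ ⟨i, j, hij, c, rfl⟩
    exact transvection_pow_eq_one p hij.ne c

theorem good_sylow_psl {G : Type*} [Group G] [Finite G] {n : ℕ} (e : G ≃* PSLg n F) (Q : Sylow p G)
    (y : (Q : Subgroup G)) : Good p y :=
  good_sylow_iso e (uniTriSylow p) (good_map_subgroup _ (good_uniTri p)) Q y

theorem good_upper {m : ℕ} (x : Symp.upper m F) : Good p x := by
  refine good_of_le_gsub ?_ x
  rintro _ ⟨B, hB, A, hA, rfl⟩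
  exact mul_mem (mem_gsub_of_pow (Symp.unip_mem_upper hB) (Symp.unip_pow_p p hB))
    (mem_gsub_of_hom Symp.lsl (fun _ h => Symp.lsl_mem_upper h) (good_uniTri p) hA)

theorem good_sylow_psp {G : Type*} [Group G] [Finite G] {m : ℕ} (e : G ≃* Cfsg.PSp m F) (Q : Sylow p G)
    (y : (Q : Subgroup G)) : Good p y := by
  obtain ⟨S₀, hS₀⟩ := Symp.exists_sylow (F := F) (m := m) (p := p)
  exact good_sylow_iso e S₀ (hS₀ ▸ good_map_subgroup _ (good_upper p)) Q y

end CfsgLib.SylowLieTwo
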