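import Cfsg.Agent.Lib.SylowLieTwo.OrthBase
import Cfsg.Agent.Lib.Classical.Quad.Std

/-!
Sylow `2`-subgroups of the orthogonal groups over fields of characteristic two.
-/

set_option autoImplicit false

namespace CfsgLib.SylowLieTwo

open QuadraticMap Module CfsgLib.Classical.Quad CfsgLib.AutPOmega CfsgLib.SylowAbel

variable {F : Type*} [Field F] [Fintype F] [CharP F 2]

omit [Fintype F] in
theorem factorization_two_part {A s N : ℕ} (hA : A = (2 ^ s) * N) (hN : ¬ 2 ∣ N) :
    A.factorization 2 = s := by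
  have hN0 : N ≠ 0 := fun h => hN (h ▸ dvd_zero 2)
  rw [hA, Nat.factorization_mul (pow_ne_zero _ two_ne_zero) hN0, Nat.prime_two.factorization_pow]
  simp [Nat.factorization_eq_zero_of_not_dvd hN]

/-- A model orthogonal group has a good Sylow subgroup once the order is known. -/
theorem good_sylow_orth_model {W : Type*} [AddCommGroup W] [Module F W] [FiniteDimensional F W] {m : ℕ}
    {R : QuadraticForm F W} (hnd : NDPolar (hypForm m R)) (P : Frame (hypForm m R)) {G : Type*} [Group G]
    [Finite G] (e : G ≃* siegelGroup (hypForm m R) ⧸ Subgroup.center (siegelGroup (hypForm m R))) {N : ℕ}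
    (hN : ¬ 2 ∣ N) (hcard : Nat.card G = Nat.card F ^ (m * (m - 1)) * Nat.card W ^ m * N)
    (Q : Sylow 2 G) (y : (Q : Subgroup G)) : Good 2 y := by
  haveI : Fact (Nat.Prime 2) := ⟨Nat.prime_two⟩
  have hZ : Subgroup.center (siegelGroup (hypForm m R)) = ⊥ := by
    rw [← Subgroup.card_eq_one]
    exact card_center_eq_one hnd P fun _ => negOne_eq_one CharTwo.two_eq_zero
  let f : flagTail R m 0 →* G :=
    (e.symm.toMonoidHom.comp (QuotientGroup.mk' _)).comp (flagTail R m 0).subtype
  have hf : Function.Injective f := by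
    refine (e.symm.injective.comp ?_).comp Subtype.val_injective
    rw [← MonoidHom.ker_eq_bot_iff, QuotientGroup.ker_mk', hZ]
  refine good_sylow_of_hom f hf ?_ (good_flagTail 2 0) Q y
  have h0 := card_flagTail (R := R) m le_rfl
  rw [Nat.sub_self] at h0
  obtain ⟨k, _, hk⟩ := FiniteField.card F 2
  have hW : Nat.card W = Nat.card F ^ finrank F W := Module.natCard_eq_pow_finrank
  have h1 : Nat.card F ^ (m * (m - 1)) * Nat.card W ^ m = 2 ^ ((k : ℕ) * (m * (m - 1) + finrank F W * m)) := by
    rw [hW, ← pow_mul, ← pow_add, pow_mul 2, ← hk, Nat.card_eq_fintype_card]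
  rw [h0, h1, factorization_two_part (hcard.trans (by rw [h1])) hN]

omit [CharP F 2] in
theorem prod_sub_one_odd (hq : Even (Nat.card F)) (m : ℕ) :
    Odd (∏ i ∈ Finset.range m, (Nat.card F ^ (2 * (i + 1)) - 1)) := by
  refine Finset.prod_induction _ Odd (fun _ _ => Odd.mul) odd_one fun i _ => ?_
  exact Nat.Even.sub_odd (one_le_card_pow _) (hq.pow_of_ne_zero (by omega)) odd_one

theorem card_even : Even (Nat.card F) := by
  rw [← Nat.not_odd_iff_even]
  exact fun h => two_ne_zero_iff_odd.2 h CharTwo.two_eq_zero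

theorem good_sylow_pomega_plus {G : Type*} [Group G] [Finite G] {m : ℕ} (hm : 3 ≤ m)
    (e : G ≃* Cfsg.POmega F (Cfsg.quadFormPlus m F)) (Q : Sylow 2 G) (y : (Q : Subgroup G)) : Good 2 y := by
  have hnd := ndPolar_hypForm (ndPolar_zeroKernel (F := F)) m
  have hq := card_even (F := F)
  have ho : Odd (Nat.card F ^ m - 1) :=
    Nat.Even.sub_odd (one_le_card_pow _) (hq.pow_of_ne_zero (by omega)) odd_one
  have h := card_pomega_plus (F := F) hm
  rw [Nat.Coprime.pow_left 2 (Nat.coprime_two_left.2 ho) |>.gcd_eq_one, one_mul] at h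
  refine good_sylow_orth_model hnd (hypFrameThree (zeroKernel F) hm)
    (e.trans (pomegaEquiv (plusEquiv m F) (plusEquiv_spec m) hnd (hypFrameThree (zeroKernel F) hm)))
    (N := (Nat.card F ^ m - 1) * ∏ i ∈ Finset.range (m - 1), (Nat.card F ^ (2 * (i + 1)) - 1)) ?_ ?_ Q y
  · rw [← even_iff_two_dvd, Nat.not_even_iff_odd]
    exact ho.mul (prod_sub_one_odd hq _)
  · rw [Nat.card_congr e.toEquiv, h, Nat.card_fun, Nat.card_fin, pow_zero, one_pow, mul_one, mul_assoc]

theorem good_sylow_pomega_minus {G : Type*} [Group G] [Finite G] {a b : F} (hab : IsAniso a b) {m : ℕ}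
    (hm : 2 ≤ m) (e : G ≃* Cfsg.POmega F (Cfsg.quadFormMinus m F a b)) (Q : Sylow 2 G)
    (y : (Q : Subgroup G)) : Good 2 y := by
  have hnd := ndPolar_hypForm (ndPolar_binForm hab) m
  have hq := card_even (F := F)
  have ho : Odd (Nat.card F ^ (m + 1) + 1) := (hq.pow_of_ne_zero (by omega)).add_one
  have h := card_pomega_minus hab hm
  rw [Nat.Coprime.pow_left 2 (Nat.coprime_two_left.2 ho) |>.gcd_eq_one, one_mul] at h
  have P := hypFrameKernel (R := binForm a b) hm ![1, 0] (by simp [binForm_apply])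
  refine good_sylow_orth_model hnd P
    (e.trans (pomegaEquiv (minusEquiv m F) (minusEquiv_spec m a b) hnd P))
    (N := (Nat.card F ^ (m + 1) + 1) * ∏ i ∈ Finset.range m, (Nat.card F ^ (2 * (i + 1)) - 1)) ?_ ?_ Q y
  · rw [← even_iff_two_dvd, Nat.not_even_iff_odd]
    exact ho.mul (prod_sub_one_odd hq _)
  · rw [Nat.card_congr e.toEquiv, h, Nat.card_fun, Nat.card_fin, ← pow_mul, ← pow_add, mul_assoc]
    congr 2
    cases m with
    | zero => omega
    | succ n => simp only [Nat.add_sub_cancel]; ring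

end CfsgLib.SylowLieTwo
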