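import Cfsg.Agent.Lib.SylowLieTwo.Basic
import Cfsg.Agent.Lib.AutPOmega.SylowCentre

/-!
A large `p`-subgroup of the Siegel group of a model space, generated by Siegel elements at the vectors
of a maximal flag.
-/

set_option autoImplicit false

namespace CfsgLib.SylowLieTwo

open QuadraticMap Module CfsgLib.Classical.Quad CfsgLib.AutPOmega CfsgLib.SylowAbel

variable {F W : Type*} [Field F] [AddCommGroup W] [Module F W] {m : ℕ} {R : QuadraticForm F W}

local notation "𝐐" => hypForm m R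

/-- The vectors with no coordinates at the first `i + 1` pairs. -/
def lateSub (F W : Type*) [Field F] [AddCommGroup W] [Module F W] {m : ℕ} (i : Fin m) :
    Submodule F (Vm F m W) where
  carrier := {x | ∀ l : Fin m, l ≤ i → x.1.1 l = 0 ∧ x.1.2 l = 0}
  add_mem' := fun hx hy l hl => by simp [(hx l hl).1, (hx l hl).2, (hy l hl).1, (hy l hl).2]
  zero_mem' := fun l _ => by simp
  smul_mem' := fun c x hx l hl => by simp [(hx l hl).1, (hx l hl).2]

theorem polar_ee_late (i : Fin m) {x : Vm F m W} (hx : x ∈ lateSub F W i) : polar 𝐐 (ee i) x = 0 := by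
  rw [polar_ee_left]
  exact (hx i le_rfl).2

/-- The Siegel elements at `ee i` with late parameters. -/
noncomputable def flagPart (R : QuadraticForm F W) (i : Fin m) : Subgroup (siegelGroup (hypForm m R)) :=
  sgGroup (Q_ee i) (lateSub F W i) fun _ hx => polar_ee_late i hx

/-- The subgroup generated by the parts from `k` on. -/
noncomputable def flagTail (R : QuadraticForm F W) (m k : ℕ) : Subgroup (siegelGroup (hypForm m R)) :=
  ⨆ (i : Fin m) (_ : k ≤ (i : ℕ)), flagPart R i

theorem sg_late_ff (i : Fin m) {x : Vm F m W} (hx : x ∈ lateSub F W i) :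
    ∃ c : F, (sg 𝐐 (ee i) x).1 (ff i) = ff i + x + c • ee i :=
  ⟨_, by rw [sg_apply (Q_ee i) (polar_ee_late i hx), polar_ee_right, ff_b, if_pos rfl, one_smul]⟩

theorem eq_zero_of_smul_ee (i : Fin m) {x : Vm F m W} (hx : x ∈ lateSub F W i) {c : F}
    (h : x + c • ee i = 0) : x = 0 := by
  have hc : c = 0 := by
    have := congrArg (fun z : Vm F m W => z.1.1 i) h
    simpa [(hx i le_rfl).1] using this
  rwa [hc, zero_smul, add_zero] at h

theorem fix_of_mem_flagTail {k : ℕ} {g : siegelGroup 𝐐} (hg : g ∈ flagTail R m k) (l : Fin m)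
    (hl : (l : ℕ) < k) : (g : Orth 𝐐).1 (ee l) = ee l ∧ (g : Orth 𝐐).1 (ff l) = ff l := by
  let S : Subgroup (siegelGroup 𝐐) :=
    { carrier := {g | (g : Orth 𝐐).1 (ee l) = ee l ∧ (g : Orth 𝐐).1 (ff l) = ff l}
      one_mem' := ⟨rfl, rfl⟩
      mul_mem' := by
        rintro a b ⟨ha, ha'⟩ ⟨hb, hb'⟩
        constructor
        · show (a : Orth 𝐐).1 ((b : Orth 𝐐).1 (ee l)) = ee l
          rw [hb, ha]
        · show (a : Orth 𝐐).1 ((b : Orth 𝐐).1 (ff l)) = ff l
          rw [hb', ha']
      inv_mem' := by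
        rintro a ⟨ha, ha'⟩
        constructor
        · show (a : Orth 𝐐).1.symm (ee l) = ee l
          rw [LinearEquiv.symm_apply_eq, ha]
        · show (a : Orth 𝐐).1.symm (ff l) = ff l
          rw [LinearEquiv.symm_apply_eq, ha'] }
  have hle : flagTail R m k ≤ S := iSup₂_le fun i hi g hg => by
    obtain ⟨x, hx, hgx⟩ := hg
    have hli : l < i := Fin.lt_def.2 (hl.trans_le hi)
    show _ ∧ _
    rw [hgx]
    exact ⟨sg_fix (Q_ee i) (polar_ee_late i hx) (by simp [polar_ee_right])
        (by rw [polar_ee_left]; exact (hx l hli.le).2),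
      sg_fix (Q_ee i) (polar_ee_late i hx) (by simp [polar_ee_right, hli.ne'])
        (by rw [polar_ff_left]; exact (hx l hli.le).1)⟩
  exact hle hg

theorem flagTail_eq (i : Fin m) : flagTail R m i = flagPart R i ⊔ flagTail R m (i + 1) := by
  refine le_antisymm (iSup₂_le fun l hl => ?_) (sup_le (le_iSup₂_of_le i le_rfl le_rfl)
    (iSup₂_le fun l hl => le_iSup₂_of_le l (by omega) le_rfl))
  rcases eq_or_lt_of_le hl with h | h
  · exact (Fin.ext h.symm : l = i) ▸ le_sup_left
  · exact le_sup_of_le_right (le_iSup₂_of_le l h le_rfl)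

theorem flagTail_normalizes (i : Fin m) :
    flagTail R m (i + 1) ≤ Subgroup.normalizer (flagPart R i : Set (siegelGroup 𝐐)) := by
  have hle : ∀ g ∈ flagTail R m (i + 1), ∀ a ∈ flagPart R i, g * a * g⁻¹ ∈ flagPart R i := by
    rintro g hg a ⟨x, hx, ha⟩
    have hfix := fun l (hl : l ≤ i) => fix_of_mem_flagTail hg l (Nat.lt_succ_of_le hl)
    refine ⟨(g : Orth 𝐐).1 x, fun l hl => ?_, ?_⟩
    · obtain ⟨he, hf⟩ := hfix l hl
      constructor
      · rw [← polar_ff_right (R := R), ← hf, orth_polar, polar_ff_right]; exact (hx l hl).1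
      · rw [← polar_ee_right (R := R), ← he, orth_polar, polar_ee_right]; exact (hx l hl).2
    · rw [Subgroup.coe_mul, Subgroup.coe_mul, Subgroup.coe_inv, ha, sg_conj, (hfix i le_rfl).1]
  intro g hg
  rw [Subgroup.mem_normalizer_iff]
  refine fun a => ⟨hle g hg a, fun h => ?_⟩
  have := hle g⁻¹ (Subgroup.inv_mem _ hg) _ h
  simpa [mul_assoc] using this

theorem eq_one_of_mem_inter (i : Fin m) {g : siegelGroup 𝐐} (ha : g ∈ flagPart R i)
    (hb : g ∈ flagTail R m (i + 1)) : g = 1 := by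
  obtain ⟨x, hx, hgx⟩ := ha
  obtain ⟨c, hc⟩ := sg_late_ff (R := R) i hx
  rw [← hgx, (fix_of_mem_flagTail hb i (Nat.lt_succ_self _)).2, add_assoc, left_eq_add] at hc
  refine Subtype.ext ?_
  rw [hgx, eq_zero_of_smul_ee i hx hc, sg_zero (Q_ee i)]
  rfl

theorem card_flagPart (i : Fin m) :
    Nat.card (flagPart R i) = Nat.card (lateSub F W i) := by
  refine (Nat.card_congr (Equiv.ofBijective (fun x : lateSub F W i =>
    (⟨⟨sg 𝐐 (ee i) x.1, sg_mem _ _⟩, x.1, x.2, rfl⟩ : flagPart R i)) ⟨?_, ?_⟩)).symm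
  · intro x y h
    have h1 : (sg 𝐐 (ee i) x.1).1 (ff i) = (sg 𝐐 (ee i) y.1).1 (ff i) :=
      congrArg (fun z : flagPart R i => ((z : siegelGroup 𝐐) : Orth 𝐐).1 (ff i)) h
    obtain ⟨c, hc⟩ := sg_late_ff (R := R) i x.2
    obtain ⟨d, hd⟩ := sg_late_ff (R := R) i y.2
    rw [hc, hd, add_assoc, add_assoc, add_right_inj] at h1
    exact Subtype.ext (sub_eq_zero.1 (eq_zero_of_smul_ee i (sub_mem x.2 y.2) (c := c - d) (by
      rw [sub_smul, sub_add_sub_comm, h1, sub_self])))
  · rintro ⟨g, x, hx, hg⟩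
    exact ⟨⟨x, hx⟩, Subtype.ext (Subtype.ext hg.symm)⟩

theorem card_lateSub (i : Fin m) :
    Nat.card (lateSub F W i) = Nat.card F ^ (2 * (m - 1 - i)) * Nat.card W := by
  classical
  let T := {l : Fin m // i < l}
  let e : lateSub F W i ≃ ((T → F) × (T → F)) × W :=
    { toFun := fun x => ((fun l => x.1.1.1 l.1, fun l => x.1.1.2 l.1), x.1.2)
      invFun := fun y => ⟨((fun l => if h : i < l then y.1.1 ⟨l, h⟩ else 0,
          fun l => if h : i < l then y.1.2 ⟨l, h⟩ else 0), y.2),
        fun l hl => ⟨dif_neg hl.not_gt, dif_neg hl.not_gt⟩⟩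
      left_inv := fun x => by
        refine Subtype.ext (Prod.ext (Prod.ext (funext fun l => ?_) (funext fun l => ?_)) rfl)
        · by_cases h : i < l
          · simp [h]
          · simp [h, (x.2 l (not_lt.1 h)).1]
        · by_cases h : i < l
          · simp [h]
          · simp [h, (x.2 l (not_lt.1 h)).2]
      right_inv := fun y => by
        refine Prod.ext (Prod.ext (funext fun l => ?_) (funext fun l => ?_)) rfl <;> simp [l.2] }
  rw [Nat.card_congr e, Nat.card_prod, Nat.card_prod, Nat.card_fun, two_mul, pow_add]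
  have hT : Nat.card T = m - 1 - i := by
    rw [Nat.card_eq_fintype_card, Fintype.card_subtype, Finset.filter_lt_eq_Ioi, Fin.card_Ioi]
  rw [hT]



theorem card_flagTail (j : ℕ) (hj : j ≤ m) :
    Nat.card (flagTail R m (m - j)) = Nat.card F ^ (j * (j - 1)) * Nat.card W ^ j := by
  induction j with
  | zero =>
    have : flagTail R m (m - 0) = ⊥ := le_bot_iff.1 (iSup₂_le fun l hl => absurd hl (by omega))
    rw [this, Subgroup.card_bot]
    simp
  | succ j ih =>
    let i : Fin m := ⟨m - (j + 1), by omega⟩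
    have hi : (i : ℕ) + 1 = m - j := by simp [i]; omega
    rw [show m - (j + 1) = (i : ℕ) from rfl, flagTail_eq]
    have hcoe := Subgroup.coe_mul_of_right_le_normalizer_left (flagPart R i) (flagTail R m (i + 1))
      (flagTail_normalizes i)
    let φ : flagPart R i × flagTail R m (i + 1) → ↥(flagPart R i ⊔ flagTail R m (i + 1)) := fun a =>
      ⟨a.1.1 * a.2.1, mul_mem (Subgroup.mem_sup_left a.1.2) (Subgroup.mem_sup_right a.2.2)⟩
    have hφ : Function.Bijective φ := by
      refine ⟨fun a b h => ?_, fun x => ?_⟩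
      · have h' : a.1.1 * a.2.1 = b.1.1 * b.2.1 := congrArg Subtype.val h
        have h1 : b.1.1⁻¹ * a.1.1 = b.2.1 * a.2.1⁻¹ := by
          rw [eq_mul_inv_iff_mul_eq, mul_assoc, h', inv_mul_cancel_left]
        have h2 := eq_one_of_mem_inter i (mul_mem (inv_mem b.1.2) a.1.2)
          (h1 ▸ mul_mem b.2.2 (inv_mem a.2.2))
        refine Prod.ext (Subtype.ext (inv_mul_eq_one.1 h2).symm) (Subtype.ext ?_)
        exact (mul_inv_eq_one.1 (h1.symm.trans h2)).symm
      · have hx : (x : siegelGroup 𝐐) ∈ ((flagPart R i ⊔ flagTail R m (i + 1) : Subgroup _) : Set (siegelGroup 𝐐)) := x.2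
        rw [hcoe] at hx
        obtain ⟨a, ha, b, hb, hab⟩ := Set.mem_mul.1 hx
        exact ⟨(⟨a, ha⟩, ⟨b, hb⟩), Subtype.ext hab⟩
    rw [← Nat.card_eq_of_bijective φ hφ, Nat.card_prod, card_flagPart, card_lateSub, hi, ih (by omega)]
    have e1 : m - 1 - (i : ℕ) = j := by simp [i]; omega
    have e2 : (j + 1) * (j + 1 - 1) = 2 * j + j * (j - 1) := by
      cases j with
      | zero => rfl
      | succ n => simp only [Nat.add_sub_cancel]; ring
    rw [e1, e2, pow_add, pow_succ' (Nat.card W)]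
    ring


theorem good_flagTail (p : ℕ) [CharP F p] (k : ℕ) (x : flagTail R m k) : Good p x := by
  refine good_of_le_gsub (iSup₂_le fun i hi g hg => ?_) x
  obtain ⟨v, hv, hgv⟩ := id hg
  refine mem_gsub_of_pow (Subgroup.mem_iSup_of_mem i (Subgroup.mem_iSup_of_mem hi hg)) (Subtype.ext ?_)
  rw [SubgroupClass.coe_pow, hgv, sg_pow_char]
  rfl

end CfsgLib.SylowLieTwo
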