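import Cfsg.Agent.Lib.SylowLieTwo.Basic
import Cfsg.Agent.Lib.ReeF4Out.BN

/-!
Sylow `2`-subgroups of the large Ree groups.
-/

set_option autoImplicit false
set_option linter.unusedSectionVars false
set_option maxRecDepth 4000

namespace CfsgLib.SylowLieTwo

open scoped commutatorElement
open Cfsg.Lie CfsgLib.Chev CfsgLib.ReeF4 CfsgLib.ReeF4Out CfsgLib.SylowAbel

variable {K : Type*} [Field K] [Fintype K] {m : ℕ} {σ : MulAut ↥(chevF4.group K)}

section
variable (hσ : IsSigma m σ) (hm : 1 ≤ m)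
include hσ hm

theorem good_base (s : Bool) : V σ (JRoot s) ≤ gsub 2 (V σ (JRoot s)) := by
  intro g hg
  set g' : ↥(G1 K m) := ⟨g, (base_spec hσ s).1 hg⟩
  cases s
  · refine mem_gsub_of_pow hg ?_
    obtain ⟨t, ht⟩ := exists_pg hσ (g := g') hg
    rw [pow_two, show g = (g' : GL chevF4.Idx K) from rfl, ← Subgroup.coe_mul, ht, pg_self hσ]
    rfl
  · refine mem_gsub_iff.2 ⟨hg, ?_⟩
    obtain ⟨x, u, hx⟩ := exists_qg hσ (g := g') hg
    obtain ⟨c, hc⟩ := exists_not_prime hσ hm
    have hc0 : c ^ 2 ^ m + c ≠ 0 := fun e => hc (by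
      have := CfsgLib.ReeF4.charP_two hσ.card
      rwa [CharTwo.add_eq_zero] at e)
    have hinj : Function.Injective fun t : K => t ^ (2 ^ m + 1) := by
      intro a b h
      simp only at h
      rcases eq_or_ne b 0 with rfl | hb
      · rw [zero_pow (Nat.succ_ne_zero _)] at h
        exact (pow_eq_zero_iff (Nat.succ_ne_zero _)).1 h
      · exact (div_eq_one_iff_eq hb).1 (norm_one hσ (by rw [div_pow, h, div_self (pow_ne_zero _ hb)]))
    obtain ⟨t, ht⟩ := (Finite.injective_iff_surjective.1 hinj) (x ^ (2 ^ m + 1) / (c ^ 2 ^ m + c))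
    have ht' : (c * t) ^ 2 ^ m * t + t ^ 2 ^ m * (c * t) = x ^ (2 ^ m + 1) := by
      simp only at ht
      rw [eq_div_iff hc0] at ht
      rw [← ht, mul_pow, pow_succ]
      ring
    have hcom : qg hσ true (c * t) 0 * qg hσ true t 0 =
        qg hσ true 0 (x ^ (2 ^ m + 1)) * (qg hσ true t 0 * qg hσ true (c * t) 0) := by
      rw [qg_mul, qg_mul, qg_mul, zero_pow (pow_ne_zero _ two_ne_zero), zero_mul, zero_add, zero_add,
        zero_add, zero_add, add_zero, add_comm t, ← ht', add_assoc, add_self hσ, add_zero]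
    have h2 : g ^ 2 = ⁅((qg hσ true (c * t) 0 : ↥(G1 K m)) : GL chevF4.Idx K),
        ((qg hσ true t 0 : ↥(G1 K m)) : GL chevF4.Idx K)⁆ := by
      rw [commutatorElement_def, eq_mul_inv_iff_mul_eq, eq_mul_inv_iff_mul_eq, mul_assoc, pow_two,
        show g = (g' : GL chevF4.Idx K) from rfl, ← Subgroup.coe_mul, ← Subgroup.coe_mul, ← Subgroup.coe_mul,
        ← Subgroup.coe_mul, hx, qg_sq, ← hcom]
    rw [h2]
    exact Subgroup.commutator_mem_commutator (qgv_pos_mem hσ _ _) (qgv_pos_mem hσ _ _)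

theorem good_class {s : Bool} {k : ℕ} (hk : k < 8) : V σ (SRoot s k) ≤ gsub 2 (V σ PosR) := by
  intro g hg
  set n := nProd chevF4 K (altW s k)
  have hnF := nu_fixed hσ s k
  have hback : n⁻¹ * g * n ∈ V σ (JRoot (sideAt s k)) :=
    Subgroup.mem_inf.2 ⟨conj_nProd_inv_uGen _ (fun r hr hS => (sroot_iff hk hr).1 hS) (Subgroup.mem_inf.1 hg).1,
      mul_mem (mul_mem (inv_mem hnF) (Subgroup.mem_inf.1 hg).2) hnF⟩
  have h := mem_gsub_of_hom (H := V σ PosR) (MulAut.conj n).toMonoidHom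
    (fun z hz => Subgroup.mem_inf.2 ⟨conj_nProd_uGen _ (fun r hr hJ => ?_) (Subgroup.mem_inf.1 hz).1,
      mul_mem (mul_mem hnF (Subgroup.mem_inf.1 hz).2) (inv_mem hnF)⟩)
    (good_of_le_gsub (good_base hσ hm (sideAt s k))) hback
  · convert h using 1
    show g = n * (n⁻¹ * g * n) * n⁻¹
    group
  · have : SRoot s k (sigs chevF4 tb (altW s k) r) := by
      rw [sroot_iff hk (sigs_lt hc _ hr), (altW_commute s ⟨k, by omega⟩ ⟨r, hr⟩).2]
      exact hJ
    exact this.1

theorem good_V_pos : V σ PosR ≤ gsub 2 (V σ PosR) := by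
  have key : ∀ k ≤ 8, V σ (IRoot false k) ≤ gsub 2 (V σ PosR) := by
    intro k hk
    induction k with
    | zero =>
      refine le_trans inf_le_left ?_
      refine uGen_le_iff.2 fun r hr h => ?_
      exact absurd h.2 (Nat.not_lt.2 h.1)
    | succ k ih =>
      intro g hg
      obtain ⟨a, ha, b, hb, rfl⟩ := fixed_components hσ (Q := IRoot false k) (R := SRoot false k)
        (closedPos_inv hc _) (closedPos_inv hc _) (closedPos_sroot false k)
        (fun r hr a b => absurd a.2 (Nat.not_lt.2 b.2.1))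
        (fun r hr => (iroot_split (by omega) hr).1) (fun r hr => iroot_rho (by omega) hr)
        (fun r hr => sroot_rho (by omega) hr) hg
      exact mul_mem (ih (by omega) ha) (good_class hσ hm (by omega) hb)
  exact (V_pos_eq hσ false).le.trans (key 8 le_rfl)

theorem good_sylow_reeF4 {G : Type*} [Group G] [Finite G] (e : G ≃* twistedF4 K (2 ^ m)) (Q : Sylow 2 G)
    (y : (Q : Subgroup G)) : Good 2 y := by
  have : Fact (Nat.Prime 2) := ⟨Nat.prime_two⟩
  obtain ⟨_, hBN⟩ := exists_hasBN hσ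
  obtain ⟨P, hP⟩ := sylow_U hBN
  have hU : Uw K m = (V σ PosR).subgroupOf (G1 K m) := Subgroup.ext fun x => mem_U hσ
  exact good_sylow_iso e P ((hP.trans hU) ▸
    good_of_equiv (Subgroup.subgroupOfEquivOfLe (V_pos_le hσ)).symm (good_of_le_gsub (good_V_pos hσ hm))) Q y

end

end CfsgLib.SylowLieTwo
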