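import Cfsg.Agent.Lib.SylowLieTwo.Basic
import Cfsg.Agent.Lib.Suzuki.Sylow
import Cfsg.Agent.Lib.SuzukiMatrix.Bridge

/-!
Sylow `2`-subgroups of the Suzuki groups.
-/

set_option autoImplicit false

namespace CfsgLib.SylowLieTwo

open CfsgLib.SylowAbel CfsgLib.Suzuki CfsgLib.SuzukiMatrix

variable {F : Type*} [Field F] [Fintype F] {m : ℕ}

theorem good_tGroup (h : SzHyp F m) (g : tGroup h) : Good 2 g := by
  rw [Good, tGroup_commutator h, tS_center_mem h]
  obtain ⟨g, a, b, rfl⟩ := g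
  exact ⟨sig m a * a, by rw [Subgroup.coe_pow, pow_two, tS_sq]⟩

theorem good_sylow_suzuki (h : SzHyp F m) {G : Type*} [Group G] [Finite G]
    (e : G ≃* Cfsg.Lie.Sz F (2 ^ (m + 1))) (Q : Sylow 2 G) (y : (Q : Subgroup G)) : Good 2 y := by
  have : Fact (Nat.Prime 2) := ⟨Nat.prime_two⟩
  haveI : Finite (Cfsg.Sz F m) := Finite.of_equiv G (e.trans (szEquiv h).symm).toEquiv
  let P : Sylow 2 (Cfsg.Sz F m) := default
  obtain ⟨x, hx⟩ := exists_map_tGroup h P
  exact good_sylow_iso (e.trans (szEquiv h).symm) P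
    (hx ▸ good_map_subgroup _ (good_tGroup h)) Q y

end CfsgLib.SylowLieTwo
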