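import Cfsg.Agent.Lib.SylowLieTwo.Basic
import Cfsg.Agent.Lib.TwistOut.Base
import Cfsg.Agent.Lib.TwistOut.E6
import Cfsg.Agent.Lib.TwistOut.D4

/-!
Sylow `2`-subgroups of the twisted groups over fields of characteristic two.
-/

set_option autoImplicit false
set_option linter.unusedSectionVars false

namespace CfsgLib.SylowLieTwo

open Cfsg.Lie CfsgLib.Chev CfsgLib.Chevalley CfsgLib.Twisted CfsgLib.TwistOut CfsgLib.SylowAbel
open CfsgLib.ChevAut (Up)

variable {D : ChevalleyDatum} {T : Tabs} {S : TwistSym D} {H : List ℤ} {Lw : List ℕ} {K : Type*} [Field K]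

theorem good_twist_unipotent (C : Ctx D T S H Lw) (φ : K ≃+* K) (p : ℕ) [CharP K p]
    (x : Uw C φ) : Good p x := by
  refine good_of_le_gsub (fun g hg => ?_) x
  have hle : repGen C.hS φ T 1 D.nroots ≤ (gsub p (Uw C φ)).map (Tg C φ).subtype := by
    refine (Subgroup.closure_le _).2 ?_
    rintro _ ⟨r, hr, -, -, t, ht, rfl⟩
    obtain ⟨hn, hp⟩ := mem_repList hr
    refine ⟨⟨_, orbX_mem C.hc C.hS φ C.hN hn ht⟩, mem_gsub_of_pow (orbX_mem_up C φ hn hp t)
      (Subtype.ext ?_), rfl⟩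
    show orbX C.hS φ r t ^ p = 1
    have key : ∀ n : ℕ, orbX C.hS φ r t ^ n = orbX C.hS φ r ((n : K) * t) := by
      intro n
      induction n with
      | zero => rw [pow_zero, Nat.cast_zero, zero_mul, orbX_zero C.hc C.hS φ hn]
      | succ n ih => rw [pow_succ, ih, orbX_add C.hc C.hS φ hn, Nat.cast_succ, add_mul, one_mul]
    rw [key, CharP.cast_eq_zero, zero_mul, orbX_zero C.hc C.hS φ hn]
  have hmem : (g : GL D.Idx K) ∈ highU D T K 1 ⊓ fixedSub S C.hS φ := by
    rw [highU_one C.hc (F := K) (TwistSym.htPos C.hO), up_eq C]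
    exact ⟨Subgroup.mem_subgroupOf.1 hg, twistGrp_le_fixed C.hc C.hS φ g.2⟩
  obtain ⟨g', hg', he⟩ := hle (highU_fixed_le_repGen C.hc C.comm C.hS C.hO φ le_rfl
    (fun e => lt_irrefl _ (mem_repList e.1).1) hmem)
  exact Subtype.ext he ▸ hg'

theorem good_sylow_twist [Finite K] (C : Ctx D T S H Lw) (φ : K ≃+* K) (p : ℕ) [Fact p.Prime] [CharP K p]
    {G : Type*} [Group G] [Finite G] (e : G ≃* ↥(Tg C φ)) (Q : Sylow p G) (y : (Q : Subgroup G)) :
    Good p y := by
  obtain ⟨P, hP⟩ := sylow_U C φ p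
  exact good_sylow_iso e P (hP ▸ good_twist_unipotent C φ p) Q y

theorem good_sylow_twistedE6 {K : Type*} [Field K] [Fintype K] {q : ℕ} (hq : IsPrimePow q)
    (hK : Fintype.card K = q ^ 2) [CharP K 2] {G : Type*} [Group G] [Finite G] (e : G ≃* twistedE6 K q)
    (Q : Sylow 2 G) (y : (Q : Subgroup G)) : Good 2 y := by
  have : Fact (Nat.Prime 2) := ⟨Nat.prime_two⟩
  obtain ⟨φ, hφ⟩ := exists_frob hq two_ne_zero hK
  exact good_sylow_twist TwistOut.E6.ctx φ 2
    (e.trans (MulEquiv.subgroupCongr (Twisted.E6.twistedE6_eq hK φ hφ))) Q y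

theorem good_sylow_twistedD4 {K : Type*} [Field K] [Fintype K] {q : ℕ} (hq : IsPrimePow q)
    (hK : Fintype.card K = q ^ 3) [CharP K 2] {G : Type*} [Group G] [Finite G] (e : G ≃* twistedD4 K q)
    (Q : Sylow 2 G) (y : (Q : Subgroup G)) : Good 2 y := by
  have : Fact (Nat.Prime 2) := ⟨Nat.prime_two⟩
  obtain ⟨φ, hφ⟩ := exists_frob hq three_ne_zero hK
  exact good_sylow_twist TwistOut.D4.ctx φ 2
    (e.trans (MulEquiv.subgroupCongr (Twisted.D4.twistedD4_eq hK φ hφ))) Q y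

end CfsgLib.SylowLieTwo
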