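import Cfsg.Agent.Lib.SylowLieTwo.Linear
import Cfsg.Agent.Lib.LieFusion.UnitModel

/-!
Sylow `2`-subgroups of the unitary groups over fields of characteristic two.
-/

set_option autoImplicit false

namespace CfsgLib.SylowLieTwo

open Matrix CfsgLib.AutPSL CfsgLib.SylowAbel CfsgLib.LieFusion.Unit

theorem neg_mat {F : Type*} [Field F] [CharP F 2] {ι κ : Type*} (A : Matrix ι κ F) : -A = A := by
  ext i j; exact CharTwo.neg_eq _

variable {F : Type*} [Field F] [Fintype F] [CharP F 2] {σ : F →+* F} [hσ : Fact (∀ x, σ (σ x) = x)] {m e : ℕ}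

omit [Fintype F] in
theorem two_mat {ι κ : Type*} (A : Matrix ι κ F) : A + A = 0 := by
  ext i j; exact CharTwo.add_self_eq_zero _

theorem rad_zero_mem_gsub {B : Matrix (Fin m) (Fin m) F} (h : RadCond σ (0 : Matrix (Fin m) (Fin e) F) B) :
    rad 0 B h ∈ gsub 2 (upper σ m e) := by
  refine mem_gsub_of_pow (rad_mem_upper h) ?_
  rw [pow_two, rad_mul, ← rad_zero radCond_zero]
  exact rad_congr (add_zero _) (by rw [st_zero, neg_zero, Matrix.zero_mul, add_zero, two_mat]) _ _

/-- The commutator of two elements of the radical. -/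
theorem rad_comm {v w : Matrix (Fin m) (Fin e) F} {A B X : Matrix (Fin m) (Fin m) F} (hA : RadCond σ v A)
    (hB : RadCond σ w B) (hX : RadCond σ (0 : Matrix (Fin m) (Fin e) F) X)
    (h : X = w * st σ v - v * st σ w) :
    rad v A hA * rad w B hB * (rad v A hA)⁻¹ * (rad w B hB)⁻¹ = rad 0 X hX := by
  rw [mul_inv_eq_iff_eq_mul, mul_inv_eq_iff_eq_mul, mul_assoc, rad_mul hB hA, rad_mul hA hB, rad_mul hX]
  refine rad_congr (by rw [zero_add, add_comm]) ?_ _ _
  rw [h, Matrix.zero_mul, add_zero, Matrix.mul_neg, Matrix.mul_neg]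
  abel

theorem rad_middle_mem_gsub (hI : Invol σ) {t s : F} (hts : s + σ s = -(t * σ t)) (i : Fin m) (k : Fin e) :
    rad (single i k t) (single i i s) (radCond_middle hts i k) ∈ gsub 2 (upper σ m e) := by
  have hu := rad_mem_upper (σ := σ) (radCond_middle (m := m) (e := e) hts i k)
  refine mem_gsub_iff.2 ⟨hu, ?_⟩
  set c := t * σ t with hc
  have hcσ : σ c = c := by rw [hc, map_mul, hI.invol, mul_comm]
  obtain ⟨y, hy⟩ := hI.exists_trace hcσ
  obtain ⟨s₁, hs₁⟩ := hI.exists_trace (c := -(y * σ y)) (by rw [map_neg, map_mul, hI.invol, mul_comm])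
  obtain ⟨s₂, hs₂⟩ := hI.exists_trace (c := -(1 * σ 1)) (by simp)
  have hX : RadCond σ (0 : Matrix (Fin m) (Fin e) F) (single i i c) :=
    radCond_single (l := c) (by rw [hcσ, CharTwo.neg_eq]) i
  have hcom := Subgroup.commutator_mem_commutator (rad_mem_upper (σ := σ) (radCond_middle (m := m) (e := e) hs₁ i k))
    (rad_mem_upper (σ := σ) (radCond_middle (m := m) (e := e) hs₂ i k))
  rw [commutatorElement_def, rad_comm (X := single i i c) _ _ hX ?_] at hcom
  · convert hcom using 1
    rw [pow_two, rad_mul]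
    refine rad_congr (two_mat _) ?_ _ _
    rw [two_mat, zero_add, st_single, Matrix.mul_neg, single_mul_single_same, neg_mat]
  · rw [st_single, st_single, single_mul_single_same, single_mul_single_same, map_one, mul_one, one_mul,
      sub_eq_add_neg, neg_mat, ← Matrix.single_add, ← hy, add_comm]

theorem rad_mem_gsub (hI : Invol σ) : ∀ {v : Matrix (Fin m) (Fin e) F} {B : Matrix (Fin m) (Fin m) F}
    (h : RadCond σ v B), rad v B h ∈ gsub 2 (upper σ m e) := by
  classical
  suffices ∀ N : ℕ, ∀ {v : Matrix (Fin m) (Fin e) F} {B : Matrix (Fin m) (Fin m) F} (h : RadCond σ v B),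
      (Finset.univ.filter fun a : Fin m × Fin e => v a.1 a.2 ≠ 0).card = N → rad v B h ∈ gsub 2 (upper σ m e) from
    fun {v B} h => this _ h rfl
  intro N
  induction N using Nat.strong_induction_on with
  | _ N ih =>
    intro v B h hN
    by_cases h0 : v = 0
    · subst h0
      exact rad_zero_mem_gsub h
    obtain ⟨i, k, hik⟩ : ∃ i k, v i k ≠ 0 := by
      by_contra hc
      push Not at hc
      exact h0 (Matrix.ext hc)
    obtain ⟨s, hs⟩ := hI.exists_trace (c := -(v i k * σ (v i k))) (by rw [map_neg, map_mul, hI.invol, mul_comm])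
    have hr := rad_middle_mem_gsub (m := m) (e := e) hI hs i k
    have h' := (radCond_middle hs i k).inv.mul h
    have hlt : (Finset.univ.filter fun a : Fin m × Fin e => (-single i k (v i k) + v) a.1 a.2 ≠ 0).card < N := by
      rw [← hN]
      refine Finset.card_lt_card ⟨fun a ha => ?_, fun hss => ?_⟩
      · obtain ⟨a, b⟩ := a
        simp only [Finset.mem_filter, Finset.mem_univ, true_and] at ha ⊢
        by_cases h1 : i = a ∧ k = b
        · obtain ⟨rfl, rfl⟩ := h1; exact hik
        · simpa [Matrix.single_apply, h1] using ha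
      · have := hss (x := (i, k)) (Finset.mem_filter.2 ⟨Finset.mem_univ _, hik⟩)
        exact (Finset.mem_filter.1 this).2 (by simp)
    have := mul_mem hr (ih _ hlt h' rfl)
    rwa [← rad_mul (radCond_middle hs i k).inv h, ← rad_inv (radCond_middle hs i k), mul_inv_cancel_left] at this

theorem good_upper_unit (hI : Invol σ) (x : upper σ m e) : Good 2 x := by
  refine good_of_le_gsub ?_ x
  rintro _ ⟨v, B, h, A, hA, rfl⟩
  exact mul_mem (rad_mem_gsub hI h) (mem_gsub_of_hom lev (fun _ h => lev_mem_upper h) (good_uniTri 2) hA)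

theorem good_sylow_psu {F : Type*} [Field F] [Fintype F] [CharP F 2] {G : Type*} [Group G] [Finite G] {n q : ℕ}
    (hF : Fintype.card F = q ^ 2) (eG : G ≃* Cfsg.PSU n F q) (Q : Sylow 2 G) (y : (Q : Subgroup G)) :
    Good 2 y := by
  haveI : Fact (Nat.Prime 2) := ⟨Nat.prime_two⟩
  have hI : Invol (CfsgLib.Classical.Herm.qPow hF) :=
    ⟨CfsgLib.Classical.Herm.qPow_qPow hF, CfsgLib.Classical.Herm.exists_qPow_ne hF,
      CfsgLib.Classical.Herm.exists_norm_eq hF⟩
  haveI : Fact (∀ x, CfsgLib.Classical.Herm.qPow hF (CfsgLib.Classical.Herm.qPow hF x) = x) := ⟨hI.invol⟩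
  obtain ⟨f, hf⟩ := exists_iso (m := n / 2) (e := n % 2) (n := n) (q := q) hI (fun x => rfl) (Nat.div_add_mod n 2)
  let φ : SUg (CfsgLib.Classical.Herm.qPow hF) (n / 2) (n % 2) →* Cfsg.PSU n F q := (QuotientGroup.mk' _).comp f
  have hφ : Function.Surjective φ := (QuotientGroup.mk'_surjective _).comp hf.2
  obtain ⟨S₀, hS₀⟩ := exists_sylow (m := n / 2) (σ := CfsgLib.Classical.Herm.qPow hF) 2 hI (e := n % 2) (by omega)
  exact good_sylow_iso eG (S₀.mapSurjective hφ)
    (by rw [Sylow.coe_mapSurjective, hS₀]; exact good_map_subgroup _ (good_upper_unit hI)) Q y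

end CfsgLib.SylowLieTwo
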